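import Mathlib
import Groth.Prelude.Def_W4stkalgebra1Int

/-! Integrality over an ideal via the Rees algebra. -/

set_option autoImplicit false
universe u

open Polynomial

namespace Groth.Agent.IntIdeal3

variable {R S : Type u} [CommRing R] [CommRing S] [Algebra R S] (I : Ideal R)

/-- The structural map from the Rees algebra to `S[X]`. -/
noncomputable abbrev reesHom (S : Type u) [CommRing S] [Algebra R S] : reesAlgebra I →+* S[X] :=
  (mapRingHom (algebraMap R S)).comp (reesAlgebra I).val.toRingHom

theorem isIntegralOverIdeal_of_sum {s : S} (d : ℕ) (p : Fin d → R) (hp : ∀ j : Fin d, p j ∈ I ^ (d - (j : ℕ)))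
    (h : s ^ d + ∑ j, algebraMap R S (p j) * s ^ (j : ℕ) = 0) :
    W4stkalgebra1.IsIntegralOverIdeal I s := by
  refine ⟨X ^ d + ∑ j : Fin d, C (p j) * X ^ (j : ℕ),
    monic_X_pow_add (degree_sum_fin_lt _), fun j hj => ?_, ?_⟩
  · rcases subsingleton_or_nontrivial R with hR | hR
    · rw [Subsingleton.elim (coeff _ j) 0]; exact zero_mem _
    · have hd : (X ^ d + ∑ j : Fin d, C (p j) * X ^ (j : ℕ)).natDegree = d :=
        natDegree_eq_of_degree_eq_some
          ((degree_add_eq_left_of_degree_lt (by rw [degree_X_pow]; exact degree_sum_fin_lt _)).trans (degree_X_pow d))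
      rw [hd] at hj ⊢
      rw [coeff_add, coeff_X_pow, if_neg hj.ne, zero_add, finset_sum_coeff]
      refine sum_mem fun i _ => ?_
      rw [coeff_C_mul_X_pow]
      split_ifs with h'
      · exact h' ▸ hp i
      · exact zero_mem _
  · simp only [eval₂_add, eval₂_X_pow, eval₂_finsetSum, eval₂_mul, eval₂_C]
    exact h

theorem isIntegralOverIdeal_iff (s : S) :
    W4stkalgebra1.IsIntegralOverIdeal I s ↔ (reesHom I S).IsIntegralElem (C s * X) := by
  constructor
  · rintro ⟨p, hmon, hp, hs⟩
    let d := p.natDegree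
    let a : Fin d → reesAlgebra I := fun j =>
      ⟨monomial (d - (j : ℕ)) (p.coeff j), reesAlgebra.monomial_mem.mpr (hp j j.2)⟩
    refine ⟨X ^ d + ∑ j : Fin d, C (a j) * X ^ (j : ℕ),
      monic_X_pow_add (degree_sum_fin_lt _), ?_⟩
    have hterm : ∀ j : Fin d, reesHom I S (a j) * (C s * X) ^ (j : ℕ) =
        C (algebraMap R S (p.coeff j) * s ^ (j : ℕ)) * X ^ d := by
      intro j
      rw [show reesHom I S (a j) = (monomial (d - (j : ℕ)) (p.coeff j)).map (algebraMap R S) from rfl,
        map_monomial, ← C_mul_X_pow_eq_monomial, mul_pow, ← C_pow, map_mul,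
        show X ^ d = (X : S[X]) ^ (d - (j : ℕ)) * X ^ (j : ℕ) by rw [← pow_add, Nat.sub_add_cancel j.2.le]]
      ring
    simp only [eval₂_add, eval₂_X_pow, eval₂_finsetSum, eval₂_mul, eval₂_C, hterm]
    rw [mul_pow, ← C_pow, ← Finset.sum_mul, ← add_mul, ← map_sum, ← map_add]
    have hsum : s ^ d + ∑ j : Fin d, algebraMap R S (p.coeff j) * s ^ (j : ℕ) = 0 := by
      rw [eval₂_eq_sum_range, Finset.sum_range_succ, hmon.coeff_natDegree, map_one, one_mul] at hs
      rw [Fin.sum_univ_eq_sum_range (fun j => algebraMap R S (p.coeff j) * s ^ j), add_comm]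
      exact hs
    rw [hsum, map_zero, zero_mul]
  · rintro ⟨q, hq, h⟩
    let d := q.natDegree
    refine isIntegralOverIdeal_of_sum I d (fun j => (q.coeff j).1.coeff (d - (j : ℕ)))
      (fun j => (q.coeff j).2 _) ?_
    rw [eval₂_eq_sum_range, Finset.sum_range_succ, hq.coeff_natDegree, map_one, one_mul] at h
    have h' := congrArg (fun t : S[X] => t.coeff d) h
    simp only [coeff_add, finset_sum_coeff, coeff_zero] at h'
    rw [Fin.sum_univ_eq_sum_range (fun j => algebraMap R S ((q.coeff j).1.coeff (d - j)) * s ^ j),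
      add_comm]
    convert h' using 2
    · refine Finset.sum_congr rfl fun j hj => ?_
      rw [mul_pow, ← C_pow, ← mul_assoc, coeff_mul_X_pow', if_pos (Finset.mem_range.mp hj).le,
        coeff_mul_C]
      exact congrArg (· * s ^ j) (coeff_map (algebraMap R S) _).symm
    · rw [mul_pow, ← C_pow, coeff_C_mul_X_pow, if_pos rfl]

theorem isIntegralElem_C {s : S} (hs : IsIntegral R s) : (reesHom I S).IsIntegralElem (C s) := by
  obtain ⟨p, hp, h⟩ := hs
  refine ⟨p.map (algebraMap R (reesAlgebra I)), hp.map _, ?_⟩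
  rw [eval₂_map]
  have : (reesHom I S).comp (algebraMap R (reesAlgebra I)) = C.comp (algebraMap R S) :=
    RingHom.ext fun r => map_C _
  rw [this, ← hom_eval₂, h, map_zero]

theorem smul_mem {s s' : S} (hs : IsIntegral R s) (h : W4stkalgebra1.IsIntegralOverIdeal I s') :
    W4stkalgebra1.IsIntegralOverIdeal I (s * s') := by
  rw [isIntegralOverIdeal_iff] at h ⊢
  rw [map_mul, mul_assoc]
  exact (isIntegralElem_C I hs).mul _ h

theorem exists_submodule : ∃ N : Submodule R S, ∀ s : S, s ∈ N ↔ W4stkalgebra1.IsIntegralOverIdeal I s :=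
  ⟨{ carrier := {s | W4stkalgebra1.IsIntegralOverIdeal I s}
     zero_mem' := by
       show W4stkalgebra1.IsIntegralOverIdeal I 0
       rw [isIntegralOverIdeal_iff, map_zero, zero_mul]; exact RingHom.isIntegralElem_zero _
     add_mem' := fun {a b} ha hb => by
       show W4stkalgebra1.IsIntegralOverIdeal I (a + b)
       replace ha : W4stkalgebra1.IsIntegralOverIdeal I a := ha
       replace hb : W4stkalgebra1.IsIntegralOverIdeal I b := hb
       rw [isIntegralOverIdeal_iff] at ha hb ⊢
       rw [map_add, add_mul]; exact ha.add _ hb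
     smul_mem' := fun r s h => by
       show W4stkalgebra1.IsIntegralOverIdeal I (r • s)
       rw [Algebra.smul_def]
       exact smul_mem I isIntegral_algebraMap h }, fun _ => Iff.rfl⟩

end Groth.Agent.IntIdeal3
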